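import Cfsg.Agent.PermutationGroups.TwoTransitiveNormal
import Cfsg.Agent.PermutationGroups.PrimeDegree
import Cfsg.Agent.SporadicA.PrimeDegNorm
import Cfsg.Agent.S0679
import Cfsg.Agent.ClassicalGeometry.PSL2Basic
import Cfsg.Agent.FastGrp
import Cfsg.Agent.Prune
set_option linter.all false
prune_inst 0x7ffefefbaff8bddfffff7e7ffffddffffbfcffffffdffbfbfffdfbffffff6b6ffffdfbafffefd8ffeef6f2b632f87bd3f9ffceffeffbdd7fffff5ff47fffff9fbfefbfa779f7bc3e1ffc6ffffbfbffdffffffffffffffffffffffffffffffffffffdffffffff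
open scoped Cfsg.Agent.FastGrp

-- part: H623/PDBase
section
/-!
Transitive groups of prime degree and maximal subgroups meeting a point stabiliser in a maximal
subgroup: general reduction.
-/

set_option autoImplicit false

namespace Cfsg.Agent.H623.PD

open MulAction Subgroup
open scoped Pointwise

section Coatom

variable {G : Type*} [Group G]

theorem isCoatom_subgroupOf_iff {U M : Subgroup G} (hUM : U ≤ M) :
    IsCoatom (U.subgroupOf M) ↔ U ≠ M ∧ ∀ X : Subgroup G, U ≤ X → X ≤ M → X = U ∨ X = M := by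
  constructor
  · intro h
    refine ⟨fun h1 => h.1 (by rw [h1]; exact subgroupOf_self M), fun X hUX hXM => ?_⟩
    by_cases h2 : X = U
    · exact Or.inl h2
    · right
      have h3 : U.subgroupOf M < X.subgroupOf M := by
        refine lt_of_le_of_ne (fun x hx => hUX hx) fun h4 => h2 ?_
        refine le_antisymm (fun x hx => ?_) hUX
        have h5 : (⟨x, hXM hx⟩ : M) ∈ X.subgroupOf M := hx
        rw [← h4] at h5
        exact h5
      have h4 := h.2 _ h3
      exact le_antisymm hXM (subgroupOf_eq_top.1 h4)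
  · rintro ⟨h1, h2⟩
    refine ⟨fun h3 => h1 (le_antisymm hUM (subgroupOf_eq_top.1 h3)), fun Y hY => ?_⟩
    have h3 : U ≤ Y.map M.subtype := by
      intro x hx
      exact ⟨⟨x, hUM hx⟩, hY.le (show (⟨x, hUM hx⟩ : M) ∈ U.subgroupOf M from hx), rfl⟩
    have h4 : Y.map M.subtype ≤ M := map_subtype_le Y
    rcases h2 _ h3 h4 with h5 | h5
    · exfalso
      apply hY.ne
      apply le_antisymm hY.le
      intro y hy
      have : (y : G) ∈ Y.map M.subtype := ⟨y, hy, rfl⟩
      rw [h5] at this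
      exact this
    · rw [eq_top_iff]
      intro y _
      have : (y : G) ∈ Y.map M.subtype := by rw [h5]; exact y.2
      obtain ⟨z, hz, hzy⟩ := this
      have : z = y := Subtype.ext hzy
      rwa [← this]

/-- A subgroup of prime relative index is maximal. -/
theorem of_relIndex_prime {U M : Subgroup G} (_ : U ≤ M) (hp : (U.relIndex M).Prime) :
    U ≠ M ∧ ∀ X : Subgroup G, U ≤ X → X ≤ M → X = U ∨ X = M := by
  refine ⟨fun h => ?_, fun X hUX hXM => ?_⟩
  · rw [h, relIndex_self] at hp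
    exact hp.ne_one rfl
  · have h1 := relIndex_mul_relIndex U X M hUX hXM
    rw [← h1] at hp
    rcases Nat.prime_mul_iff.1 hp with ⟨-, h2⟩ | ⟨-, h2⟩
    · right
      exact le_antisymm hXM (relIndex_eq_one.1 h2)
    · left
      exact le_antisymm (relIndex_eq_one.1 h2) hUX

end Coatom

/-- The configuration of a counterexample. -/
structure Bad (G : Type*) {Ω : Type*} [Group G] [MulAction G Ω] (a : Ω) (B Γ : Set Ω) : Prop where
  mem : a ∈ B
  sub : B ⊂ Γ
  ne : ∃ x ∈ B, x ≠ a
  ne_univ : ∃ y, y ∉ Γ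
  eqU : stabilizer G a ⊓ stabilizer G B = stabilizer G a ⊓ stabilizer G Γ
  max : ∀ X : Subgroup G, stabilizer G a ⊓ stabilizer G B ≤ X → X ≤ stabilizer G a →
    X = stabilizer G a ⊓ stabilizer G B ∨ X = stabilizer G a
  le : stabilizer G B ≤ stabilizer G Γ
  trB : ∀ x ∈ B, ∃ g ∈ stabilizer G B, g • a = x
  trΓ : ∀ x ∈ Γ, ∃ g ∈ stabilizer G Γ, g • a = x
  notcompl : ∀ c : Ω, Γ ≠ {c}ᶜ

section Reduce

variable {G Ω : Type*} [Group G] [MulAction G Ω]

theorem orbit_facts (K : Subgroup G) (a : Ω) :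
    K ≤ stabilizer G (orbit K a) := by
  intro k hk
  rw [mem_stabilizer_iff]
  exact smul_orbit (⟨k, hk⟩ : K) a

/-- Two-transitivity as used here. -/
def TwoTr (G : Type*) (Ω : Type*) [Group G] [MulAction G Ω] : Prop :=
  ∀ a b c d : Ω, a ≠ b → c ≠ d → ∃ g : G, g • a = c ∧ g • b = d

theorem inf_ne_of_twoTr (h2 : TwoTr G Ω) {a : Ω} {B : Set Ω} (haB : a ∈ B)
    (hne : ∃ x ∈ B, x ≠ a) (hun : ∃ y, y ∉ B) : stabilizer G a ⊓ stabilizer G B ≠ stabilizer G a := by
  intro h
  obtain ⟨x, hx, hxa⟩ := hne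
  obtain ⟨y, hy⟩ := hun
  have hya : y ≠ a := fun h' => hy (h' ▸ haB)
  obtain ⟨g, hg1, hg2⟩ := h2 a x a y hxa.symm hya.symm
  have h3 : g ∈ stabilizer G a := hg1
  rw [← h] at h3
  have h4 : g • B = B := h3.2
  apply hy
  rw [← hg2, ← h4]
  exact Set.smul_mem_smul_set hx

theorem card_of_transOn {K : Subgroup G} {a : Ω} (B : Set Ω)
    (hB : orbit K a = B) : Nat.card K = B.ncard * Nat.card (stabilizer G a ⊓ K : Subgroup G) := by
  have h1 := (stabilizer K a).index_mul_card
  rw [index_stabilizer, hB] at h1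
  rw [← h1]
  congr 1
  have : (stabilizer K a) = (stabilizer G a).subgroupOf K := by
    ext x; rfl
  rw [this, ← inf_subgroupOf_right]
  exact Nat.card_congr (subgroupOfEquivOfLe inf_le_right).toEquiv

theorem reduction [Finite G] (h2 : TwoTr G Ω) (a : Ω) (M : Subgroup G) (hM : IsCoatom M)
    (hmax : IsCoatom ((M ⊓ stabilizer G a).subgroupOf (stabilizer G a)))
    (hint : orbit M a ≠ Set.univ) (hprim : IsCoatom (stabilizer G a))
    (hcon : ¬ IsCoatom ((M ⊓ stabilizer G a).subgroupOf M)) :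
    ∃ B Γ : Set Ω, Bad G a B Γ := by
  rw [isCoatom_subgroupOf_iff inf_le_right] at hmax
  rw [isCoatom_subgroupOf_iff inf_le_left] at hcon
  obtain ⟨hU1, hU2⟩ := hmax
  -- `M` is not contained in the stabiliser
  have hMH : ¬ M ≤ stabilizer G a := by
    intro h
    rcases hM.le_iff.1 h with h3 | h3
    · exact hprim.1 h3
    · apply hU1
      rw [h3, inf_idem]
  have hUM : M ⊓ stabilizer G a ≠ M := fun h => hMH (inf_eq_left.1 h)
  push Not at hcon
  obtain ⟨K, hUK, hKM, hKU, hKM'⟩ := hcon hUM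
  have hKH : K ⊓ stabilizer G a = M ⊓ stabilizer G a :=
    le_antisymm (inf_le_inf_right _ hKM) (le_inf hUK inf_le_right)
  have hKH' : ¬ K ≤ stabilizer G a := by
    intro h
    apply hKU
    rw [← hKH]
    exact (inf_eq_left.2 h).symm
  set Γ := orbit M a with hΓ
  set B := orbit K a with hB
  have haB : a ∈ B := mem_orbit_self a
  have haΓ : a ∈ Γ := mem_orbit_self a
  have hBΓ : B ⊆ Γ := by
    rintro x ⟨k, rfl⟩
    exact ⟨⟨k, hKM k.2⟩, rfl⟩
  have hBne : ∃ x ∈ B, x ≠ a := by
    by_contra hcon'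
    push Not at hcon'
    exact hKH' fun k hk => hcon' _ ⟨⟨k, hk⟩, rfl⟩
  have hΓne : ∃ y, y ∉ Γ := by
    by_contra hcon'
    push Not at hcon'
    exact hint (Set.eq_univ_of_forall hcon')
  have cardK := card_of_transOn (K := K) B rfl
  have cardM := card_of_transOn (K := M) Γ rfl
  rw [inf_comm, hKH] at cardK
  rw [inf_comm] at cardM
  have hBΓ' : B ≠ Γ := by
    intro h
    apply hKM'
    rw [h] at cardK
    apply SetLike.coe_injective
    apply Set.eq_of_subset_of_ncard_le hKM _ (Set.toFinite _)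
    rw [← Nat.card_coe_set_eq, ← Nat.card_coe_set_eq]
    exact (cardM.trans cardK.symm).le
  have hBss : B ⊂ Γ := lt_of_le_of_ne hBΓ hBΓ'
  have hΓM : stabilizer G Γ = M := by
    rcases hM.le_iff.1 (orbit_facts M a) with h3 | h3
    · exfalso
      obtain ⟨y, hy⟩ := hΓne
      obtain ⟨x, hx, hxa⟩ := hBne
      obtain ⟨g, hg1, -⟩ := h2 a x y a hxa.symm (fun h => hy (h ▸ haΓ))
      have h4 : g ∈ stabilizer G Γ := by rw [h3]; exact mem_top g
      have h5 : g • Γ = Γ := h4
      apply hy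
      rw [← hg1, ← h5]
      exact Set.smul_mem_smul_set haΓ
    · exact h3
  have hUB : stabilizer G a ⊓ stabilizer G B = M ⊓ stabilizer G a := by
    have h3 : M ⊓ stabilizer G a ≤ stabilizer G a ⊓ stabilizer G B :=
      le_inf inf_le_right (le_trans (by rw [← hKH]; exact inf_le_left) (orbit_facts K a))
    rcases hU2 _ h3 inf_le_left with h4 | h4
    · exact h4
    · exfalso
      obtain ⟨y, hy⟩ := hΓne
      exact inf_ne_of_twoTr h2 haB hBne ⟨y, fun h => hy (hBΓ h)⟩ h4
  have hBK : stabilizer G B = K := by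
    have h3 : orbit (stabilizer G B) a = B := by
      apply le_antisymm
      · rintro x ⟨k, rfl⟩
        have h5 : (k : G) • B = B := k.2
        have h6 : (k : G) • a ∈ (k : G) • B := Set.smul_mem_smul_set haB
        rw [h5] at h6
        exact h6
      · rintro x ⟨k, rfl⟩
        exact ⟨⟨k, orbit_facts K a k.2⟩, rfl⟩
    have h4 := card_of_transOn (K := stabilizer G B) B h3
    rw [hUB] at h4
    symm
    apply SetLike.coe_injective
    apply Set.eq_of_subset_of_ncard_le (orbit_facts K a) _ (Set.toFinite _)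
    rw [← Nat.card_coe_set_eq, ← Nat.card_coe_set_eq]
    exact (h4.trans cardK.symm).le
  refine ⟨B, Γ, haB, hBss, hBne, hΓne, ?_, ?_, ?_, ?_, ?_, ?_⟩
  · rw [hUB, hΓM, inf_comm]
  · intro X h3 h4
    rw [hUB] at h3 ⊢
    exact hU2 X h3 h4
  · rw [hBK, hΓM]; exact hKM
  · rintro x ⟨k, rfl⟩
    exact ⟨k, orbit_facts K a k.2, rfl⟩
  · rintro x ⟨k, rfl⟩
    exact ⟨k, orbit_facts M a k.2, rfl⟩
  · intro c hc
    -- `Γ = {c}ᶜ`, so `M` is the stabiliser of `c`
    have hac : a ≠ c := by
      intro h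
      have : a ∈ ({c}ᶜ : Set Ω) := hc ▸ haΓ
      exact this h
    have hMc : M = stabilizer G c := by
      rw [← hΓM, hc, stabilizer_compl, stabilizer_singleton]
    obtain ⟨g, hg1, hg2⟩ := h2 a c c a hac hac.symm
    -- transport `K` by `g`
    have h3 : M ⊓ stabilizer G a ≤ K.map (MulAut.conj g).toMonoidHom := by
      intro x hx
      refine ⟨g⁻¹ * x * g, hUK ⟨?_, ?_⟩, by simp [mul_assoc]⟩
      · rw [hMc]
        change (g⁻¹ * x * g) • c = c
        rw [mul_smul, mul_smul, hg2]
        rw [show x • a = a from hx.2, ← hg2, inv_smul_smul]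
      · change (g⁻¹ * x * g) • a = a
        rw [mul_smul, mul_smul, hg1]
        have h5 : x ∈ stabilizer G c := hMc ▸ hx.1
        rw [show x • c = c from h5, ← hg1, inv_smul_smul]
    have h4 : K.map (MulAut.conj g).toMonoidHom ≤ stabilizer G a := by
      rintro _ ⟨k, hk, rfl⟩
      have h5 : k ∈ stabilizer G c := hMc ▸ (hKM hk)
      rw [mem_stabilizer_iff]
      change (g * k * g⁻¹) • a = a
      rw [mul_smul, mul_smul]
      have h6 : g⁻¹ • a = c := by rw [← hg2, inv_smul_smul]
      rw [h6, show k • c = c from h5, hg2]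
    have hcard : Nat.card (K.map (MulAut.conj g).toMonoidHom) = Nat.card K :=
      Nat.card_congr (K.equivMapOfInjective _ (MulAut.conj g).injective).toEquiv.symm
    have hHc : Nat.card (stabilizer G a) = Nat.card M := by
      rw [hMc]
      have h7 : stabilizer G (g • a) = (stabilizer G a).map (MulAut.conj g).toMonoidHom :=
        stabilizer_smul_eq_stabilizer_map_conj g a
      rw [hg1] at h7
      rw [h7]
      exact Nat.card_congr ((stabilizer G a).equivMapOfInjective _ (MulAut.conj g).injective).toEquiv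
    rcases hU2 _ h3 h4 with h5 | h5
    · apply hKU
      symm
      apply SetLike.coe_injective
      apply Set.eq_of_subset_of_ncard_le hUK _ (Set.toFinite _)
      rw [← Nat.card_coe_set_eq, ← Nat.card_coe_set_eq]
      change Nat.card K ≤ Nat.card (M ⊓ stabilizer G a : Subgroup G)
      rw [← hcard, h5]
    · apply hKM'
      apply SetLike.coe_injective
      apply Set.eq_of_subset_of_ncard_le hKM _ (Set.toFinite _)
      rw [← Nat.card_coe_set_eq, ← Nat.card_coe_set_eq]
      change Nat.card M ≤ Nat.card K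
      rw [← hcard, h5, hHc]

end Reduce

end Cfsg.Agent.H623.PD
end

-- part: H623/PDNum
section
/-!
Numerical consequences of the configuration `Bad`.
-/

set_option autoImplicit false

namespace Cfsg.Agent.H623.PD

open MulAction Subgroup
open scoped Pointwise

theorem card_dvd_of_mul_closed {G : Type*} [Group G] (U : Subgroup G) (N : Set G)
    (hN : ∀ u ∈ U, ∀ x ∈ N, u * x ∈ N) : Nat.card U ∣ Nat.card N := by
  have h1 : N⁻¹ = (QuotientGroup.mk : G → G ⧸ U) ⁻¹' ((QuotientGroup.mk : G → G ⧸ U) '' N⁻¹) := by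
    apply le_antisymm (Set.subset_preimage_image _ _)
    rintro x ⟨y, hy, hxy⟩
    have h2 : y⁻¹ * x ∈ U := QuotientGroup.eq.1 hxy
    have h3 : (y⁻¹ * x)⁻¹ * y⁻¹ ∈ N := hN _ (U.inv_mem h2) _ hy
    rw [Set.mem_inv]
    rwa [mul_inv_rev, inv_inv, mul_assoc, mul_inv_cancel, mul_one] at h3
  have h2 : Nat.card N = Nat.card (N⁻¹ : Set G) := by
    rw [Nat.card_coe_set_eq, Nat.card_coe_set_eq, Set.ncard_inv]
  rw [h2, h1]
  have h3 := QuotientGroup.card_preimage_mk U ((QuotientGroup.mk : G → G ⧸ U) '' N⁻¹)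
  rw [h3]
  exact dvd_mul_right _ _

theorem relIndex_mul_card' {G : Type*} [Group G] {U H : Subgroup G} (h : U ≤ H) :
    U.relIndex H * Nat.card U = Nat.card H := by
  have h1 := relIndex_mul_relIndex ⊥ U H bot_le h
  rw [relIndex_bot_left, relIndex_bot_left] at h1
  rw [← h1, mul_comm]

section

variable {G Ω : Type*} [Group G] [MulAction G Ω]

theorem card_transport (c : Ω) (H : Subgroup G) (S : Set Ω) [Finite G] [Finite Ω]
    (htr : ∀ x ∈ S, ∃ h ∈ H, h • c = x) :
    Nat.card {h : G | h ∈ H ∧ h • c ∈ S} = S.ncard * Nat.card (H ⊓ stabilizer G c : Subgroup G) := by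
  classical
  choose! f hf1 hf2 using htr
  rw [← Nat.card_coe_set_eq, ← Nat.card_prod]
  refine Nat.card_congr ?_
  refine ⟨fun h => (⟨h.1 • c, h.2.2⟩, ⟨(f (h.1 • c))⁻¹ * h.1, ?_⟩), fun y => ⟨f y.1 * y.2, ?_⟩, ?_, ?_⟩
  · refine ⟨H.mul_mem (H.inv_mem (hf1 _ h.2.2)) h.2.1, ?_⟩
    change ((f (h.1 • c))⁻¹ * h.1) • c = c
    rw [mul_smul, inv_smul_eq_iff, hf2 _ h.2.2]
  · have h1 : ((y.2 : G)) • c = c := y.2.2.2
    refine ⟨H.mul_mem (hf1 _ y.1.2) y.2.2.1, ?_⟩
    rw [mul_smul, h1, hf2 _ y.1.2]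
    exact y.1.2
  · intro h
    simp
  · rintro ⟨⟨x, hx⟩, ⟨y, hy⟩⟩
    have h1 : y • c = c := hy.2
    have h2 : (f x * y) • c = x := by rw [mul_smul, h1, hf2 _ hx]
    simp [h2]

/-- The key divisibility. -/
theorem dvd_of_invariant [Finite G] [Finite Ω] (h2 : TwoTr G Ω) (a : Ω) (U : Subgroup G)
    (hU : U ≤ stabilizer G a) (S : Set Ω) (haS : a ∉ S) (hS : ∀ u ∈ U, ∀ x ∈ S, u • x ∈ S) :
    Nat.card Ω - 1 ∣ U.relIndex (stabilizer G a) * S.ncard := by
  classical
  rcases S.eq_empty_or_nonempty with rfl | ⟨c, hc⟩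
  · simp only [_root_.Set.ncard_empty, _root_.MulZeroClass.mul_zero, _root_.dvd_zero]
  have hca : c ≠ a := fun h => haS (h ▸ hc)
  have htr : ∀ x : Ω, x ≠ a → ∃ h ∈ stabilizer G a, h • c = x := by
    intro x hx
    obtain ⟨g, hg1, hg2⟩ := h2 a c a x hca.symm hx.symm
    exact ⟨g, hg1, hg2⟩
  have h3 := card_transport c (stabilizer G a) S (fun x hx => htr x fun h => haS (h ▸ hx))
  have h4 := card_transport c (stabilizer G a) {a}ᶜ (fun x hx => htr x hx)
  have h5 : {h : G | h ∈ stabilizer G a ∧ h • c ∈ ({a}ᶜ : Set Ω)} = (stabilizer G a : Set G) := by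
    ext h
    constructor
    · exact fun hh => hh.1
    · intro hh
      refine ⟨hh, fun hh' => hca ?_⟩
      have h6 : h • c = a := hh'
      have h7 : h • a = a := hh
      rw [← h7] at h6
      exact MulAction.injective h h6
  rw [h5] at h4
  have h6 : ({a}ᶜ : Set Ω).ncard = Nat.card Ω - 1 := by
    rw [Set.ncard_compl, Set.ncard_singleton]
  rw [h6] at h4
  have h7 : Nat.card U ∣ Nat.card {h : G | h ∈ stabilizer G a ∧ h • c ∈ S} := by
    apply card_dvd_of_mul_closed
    rintro u hu x ⟨hx1, hx2⟩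
    refine ⟨mul_mem (hU hu) hx1, ?_⟩
    rw [mul_smul]
    exact hS u hu _ hx2
  rw [h3] at h7
  obtain ⟨n, hn⟩ := h7
  have h8 : U.relIndex (stabilizer G a) * Nat.card U = Nat.card (stabilizer G a) := by
    exact relIndex_mul_card' hU
  refine ⟨n, ?_⟩
  have hpos : 0 < Nat.card U := Nat.card_pos
  have hpos' : 0 < Nat.card (stabilizer G a ⊓ stabilizer G c : Subgroup G) := Nat.card_pos
  have h9 : Nat.card (stabilizer G a) =
    (Nat.card Ω - 1) * Nat.card (stabilizer G a ⊓ stabilizer G c : Subgroup G) := h4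
  have h10 : (U.relIndex (stabilizer G a) * S.ncard) *
      (Nat.card U * Nat.card (stabilizer G a ⊓ stabilizer G c : Subgroup G)) =
      ((Nat.card Ω - 1) * n) *
      (Nat.card U * Nat.card (stabilizer G a ⊓ stabilizer G c : Subgroup G)) := by
    calc _ = (U.relIndex (stabilizer G a) * Nat.card U) *
          (S.ncard * Nat.card (stabilizer G a ⊓ stabilizer G c : Subgroup G)) := by ring
      _ = _ := by rw [h8, hn, h9]; ring
  exact Nat.eq_of_mul_eq_mul_right (Nat.mul_pos hpos hpos') h10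

/-- A normal subgroup `N` of `H` with `U N = H`. -/
theorem relIndex_mul_inf {U H N : Subgroup G} [Finite G] (hU : U ≤ H) (hN : N ≤ H)
    (hnorm : H ≤ normalizer (N : Set G)) (hsup : H ≤ U ⊔ N) :
    U.relIndex H * Nat.card (U ⊓ N : Subgroup G) = Nat.card N := by
  have hn : (N.subgroupOf H).Normal := by
    rw [normal_subgroupOf_iff_le_normalizer hN]
    exact hnorm
  have h1 : (N.subgroupOf H).relIndex (U.subgroupOf H ⊔ N.subgroupOf H) =
      (N.subgroupOf H).relIndex (U.subgroupOf H) := relIndex_sup_right _ _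
  have h2 : U.subgroupOf H ⊔ N.subgroupOf H = ⊤ := by
    rw [← subgroupOf_sup hU hN]
    exact subgroupOf_eq_top.2 hsup
  rw [h2, relIndex_top_right, relIndex_subgroupOf hU] at h1
  have h3 : N.relIndex H = N.relIndex U := h1
  have h4 := relIndex_mul_card' hN
  have h5 := relIndex_mul_card' hU
  have h6 : N.relIndex U * Nat.card (U ⊓ N : Subgroup G) = Nat.card U := by
    rw [← inf_relIndex_left, relIndex_mul_card' inf_le_left]
  have hpos : 0 < Nat.card U := Nat.card_pos
  have : Nat.card U * (U.relIndex H * Nat.card (U ⊓ N : Subgroup G)) = Nat.card U * Nat.card N := by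
    calc _ = (U.relIndex H * Nat.card U) * Nat.card (U ⊓ N : Subgroup G) := by ring
      _ = N.relIndex U * Nat.card N * Nat.card (U ⊓ N : Subgroup G) := by rw [h5, ← h4, h3]
      _ = (N.relIndex U * Nat.card (U ⊓ N : Subgroup G)) * Nat.card N := by ring
      _ = _ := by rw [h6]
  exact Nat.eq_of_mul_eq_mul_left hpos this

end

section Bad

variable {G Ω : Type*} [Group G] [MulAction G Ω] {a : Ω} {B Γ : Set Ω}

/-- The stabiliser of `a` and `B`. -/
def UU (G : Type*) {Ω : Type*} [Group G] [MulAction G Ω] (a : Ω) (B : Set Ω) : Subgroup G :=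
  stabilizer G a ⊓ stabilizer G B

theorem orbit_eq_of_tr {a : Ω} {B : Set Ω} (ha : a ∈ B)
    (h : ∀ x ∈ B, ∃ g ∈ stabilizer G B, g • a = x) : orbit (stabilizer G B) a = B := by
  apply le_antisymm
  · rintro x ⟨k, rfl⟩
    have h5 : (k : G) • B = B := k.2
    have h6 : (k : G) • a ∈ (k : G) • B := Set.smul_mem_smul_set ha
    rw [h5] at h6
    exact h6
  · intro x hx
    obtain ⟨g, hg, hgx⟩ := h x hx
    exact ⟨⟨g, hg⟩, hgx⟩

theorem Bad.memΓ (h : Bad G a B Γ) : a ∈ Γ := h.sub.1 h.mem

theorem Bad.cardB (h : Bad G a B Γ) :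
    Nat.card (stabilizer G B) = B.ncard * Nat.card (UU G a B) :=
  card_of_transOn B (orbit_eq_of_tr h.mem h.trB)

theorem Bad.cardΓ (h : Bad G a B Γ) :
    Nat.card (stabilizer G Γ) = Γ.ncard * Nat.card (UU G a B) := by
  rw [UU, h.eqU]
  exact card_of_transOn Γ (orbit_eq_of_tr h.memΓ h.trΓ)

theorem Bad.dvd [Finite G] (h : Bad G a B Γ) : B.ncard ∣ Γ.ncard := by
  have h1 := card_dvd_of_le h.le
  rw [h.cardB, h.cardΓ] at h1
  exact Nat.dvd_of_mul_dvd_mul_right Nat.card_pos h1

theorem Bad.one_lt [Finite Ω] (h : Bad G a B Γ) : 1 < B.ncard := by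
  obtain ⟨x, hx, hxa⟩ := h.ne
  exact (Set.one_lt_ncard_iff).2 ⟨x, a, hx, h.mem, hxa⟩

theorem Bad.two_mul_le [Finite G] [Finite Ω] (h : Bad G a B Γ) : 2 * B.ncard ≤ Γ.ncard := by
  obtain ⟨n, hn⟩ := h.dvd
  have h1 : B.ncard < Γ.ncard := Set.ncard_lt_ncard h.sub
  have h2 := h.one_lt
  have h3 : 2 ≤ n := by
    by_contra hcon
    have : n = 0 ∨ n = 1 := by omega
    rcases this with rfl | rfl <;> omega
  rw [hn, mul_comm]
  exact Nat.mul_le_mul_left _ h3

theorem Bad.add_two_le [Finite Ω] (h : Bad G a B Γ) : Γ.ncard + 2 ≤ Nat.card Ω := by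
  obtain ⟨y, hy⟩ := h.ne_univ
  have h1 : Γ.ncard + Γᶜ.ncard = Nat.card Ω := Set.ncard_add_ncard_compl Γ
  have h2 : 0 < Γᶜ.ncard := by
    rw [Set.ncard_pos]
    exact ⟨y, hy⟩
  by_contra hcon
  have h3 : Γᶜ.ncard = 1 := by omega
  rw [Set.ncard_eq_one] at h3
  obtain ⟨c, hc⟩ := h3
  apply h.notcompl c
  rw [← hc, compl_compl]

/-- `r = |G_a : U|`. -/
noncomputable def rr (G : Type*) {Ω : Type*} [Group G] [MulAction G Ω] (a : Ω) (B : Set Ω) : ℕ :=
  (UU G a B).relIndex (stabilizer G a)

theorem UU_le : UU G a B ≤ stabilizer G a := inf_le_left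

theorem Bad.dvd_r [Finite G] [Finite Ω] [IsPretransitive G Ω] (hp : (Nat.card Ω).Prime)
    (h : Bad G a B Γ) {S : Set Ω} (hS : S.ncard ∣ Γ.ncard)
    (hc : Nat.card (stabilizer G S) = S.ncard * Nat.card (UU G a B)) : S.ncard ∣ rr G a B := by
  have h1 : Nat.card (stabilizer G S) ∣ Nat.card G := card_subgroup_dvd_card _
  have h2 : Nat.card G = Nat.card Ω * Nat.card (stabilizer G a) := by
    rw [← index_stabilizer_of_transitive G a, index_mul_card]
  have h3 : rr G a B * Nat.card (UU G a B) = Nat.card (stabilizer G a) :=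
    relIndex_mul_card' UU_le
  rw [hc, h2, ← h3, ← mul_assoc] at h1
  have h4 := Nat.dvd_of_mul_dvd_mul_right Nat.card_pos h1
  have h5 := h.add_two_le
  have h6 := h.one_lt
  have h7 : 0 < Γ.ncard := by
    have := h.two_mul_le
    omega
  have h8 : 0 < S.ncard := Nat.pos_of_dvd_of_pos hS h7
  have h9 : S.ncard ≤ Γ.ncard := Nat.le_of_dvd h7 hS
  refine Nat.Coprime.dvd_of_dvd_mul_left ?_ h4
  exact (Nat.coprime_of_lt_prime (by omega) (by omega) hp).symm

theorem Bad.dvdB [Finite G] [Finite Ω] [IsPretransitive G Ω] (hp : (Nat.card Ω).Prime)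
    (h : Bad G a B Γ) : B.ncard ∣ rr G a B := h.dvd_r hp h.dvd h.cardB

theorem Bad.dvdΓ [Finite G] [Finite Ω] [IsPretransitive G Ω] (hp : (Nat.card Ω).Prime)
    (h : Bad G a B Γ) : Γ.ncard ∣ rr G a B := h.dvd_r hp dvd_rfl h.cardΓ

theorem UU_smul_memB {u : G} (hu : u ∈ UU G a B) {x : Ω} (hx : x ∈ B) : u • x ∈ B := by
  have h1 : u • B = B := hu.2
  rw [← h1]
  exact Set.smul_mem_smul_set hx

theorem Bad.UU_smul_memΓ (h : Bad G a B Γ) {u : G} (hu : u ∈ UU G a B) {x : Ω} (hx : x ∈ Γ) :
    u • x ∈ Γ := by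
  have h0 : u ∈ stabilizer G a ⊓ stabilizer G Γ := h.eqU ▸ hu
  have h1 : u • Γ = Γ := h0.2
  rw [← h1]
  exact Set.smul_mem_smul_set hx

theorem smul_ne_of_mem {u : G} (hu : u ∈ stabilizer G a) {x : Ω} (hx : x ≠ a) : u • x ≠ a := by
  intro h
  have h1 : u • a = a := hu
  rw [← h1] at h
  exact hx (MulAction.injective u h)

theorem Bad.dvd_numB [Finite G] [Finite Ω] (h2 : TwoTr G Ω) (h : Bad G a B Γ) :
    Nat.card Ω - 1 ∣ rr G a B * (B.ncard - 1) := by
  have h1 := dvd_of_invariant h2 a (UU G a B) UU_le (B \ {a}) (by simp) (by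
    rintro u hu x ⟨hx1, hx2⟩
    exact ⟨UU_smul_memB hu hx1, smul_ne_of_mem (UU_le hu) hx2⟩)
  rwa [Set.ncard_sdiff_singleton_of_mem h.mem] at h1

theorem Bad.dvd_numΓ [Finite G] [Finite Ω] (h2 : TwoTr G Ω) (h : Bad G a B Γ) :
    Nat.card Ω - 1 ∣ rr G a B * (Γ.ncard - 1) := by
  have h1 := dvd_of_invariant h2 a (UU G a B) UU_le (Γ \ {a}) (by simp) (by
    rintro u hu x ⟨hx1, hx2⟩
    exact ⟨h.UU_smul_memΓ hu hx1, smul_ne_of_mem (UU_le hu) hx2⟩)
  rwa [Set.ncard_sdiff_singleton_of_mem h.memΓ] at h1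

theorem Bad.false_of_move (h : Bad G a B Γ)
    (hmove : ∀ x ∈ Γ, x ∉ B → ∀ y, y ∉ Γ → ∃ g : G, g • B = B ∧ g • x = y) : False := by
  obtain ⟨y, hy⟩ := h.ne_univ
  obtain ⟨x, hx, hxB⟩ := Set.exists_of_ssubset h.sub
  obtain ⟨g, hg1, hg2⟩ := hmove x hx hxB y hy
  have h1 : g ∈ stabilizer G Γ := h.le hg1
  have h2 : g • Γ = Γ := h1
  apply hy
  rw [← hg2, ← h2]
  exact Set.smul_mem_smul_set hx

theorem Bad.le_of_multi [Finite G] [Finite Ω] (h : Bad G a B Γ) (k : ℕ) (hk : k ≤ Nat.card Ω)
    (T : Subgroup G) (hT : IsMultiplyPretransitive T Ω k) : k ≤ B.ncard := by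
  by_contra hcon
  push Not at hcon
  have h1 : IsMultiplyPretransitive T Ω (B.ncard + 1) := isMultiplyPretransitive_of_le hcon hk
  obtain ⟨e⟩ : Nonempty (Fin B.ncard ≃ B) := by
    have := Fintype.ofFinite B
    refine ⟨(Fintype.equivFinOfCardEq ?_).symm⟩
    rw [← Nat.card_eq_fintype_card, Nat.card_coe_set_eq]
  have key : ∀ x, x ∉ B → ∃ f : Fin (B.ncard + 1) ↪ Ω, (∀ i : Fin B.ncard, f i.castSucc = e i) ∧
      f (Fin.last _) = x := by
    intro x hx
    refine ⟨⟨Fin.snoc (α := fun _ => Ω) (fun i => (e i : Ω)) x, ?_⟩, ?_, ?_⟩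
    · rw [Fin.snoc_injective_iff]
      refine ⟨fun i j hij => e.injective (Subtype.ext hij), ?_⟩
      rintro ⟨i, hi⟩
      exact hx (hi ▸ (e i).2)
    · intro i; simp
    · simp
  apply h.false_of_move
  intro x _ hxB y hy
  obtain ⟨f1, hf1, hf1'⟩ := key x hxB
  obtain ⟨f2, hf2, hf2'⟩ := key y (fun hh => hy (h.sub.1 hh))
  obtain ⟨t, ht⟩ := _root_.MulAction.exists_smul_eq T f1 f2
  have ht' : ∀ i, (t : G) • f1 i = f2 i := fun i => by
    have := DFunLike.congr_fun ht i
    exact this
  refine ⟨t, ?_, ?_⟩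
  · have hsub : (t : G) • B ⊆ B := by
      rintro _ ⟨z, hz, rfl⟩
      have h3 := ht' (e.symm ⟨z, hz⟩).castSucc
      rw [hf1, hf2] at h3
      simp only [Equiv.apply_symm_apply] at h3
      change (t : G) • z ∈ B
      rw [h3]
      exact hz
    apply Set.eq_of_subset_of_ncard_le hsub _ (Set.toFinite _)
    rw [Set.ncard_smul_set]
  · have h3 := ht' (Fin.last _)
    rwa [hf1', hf2'] at h3

/-- For a normal 2-transitive subgroup `T`. -/
theorem Bad.r_mul [Finite G] [Finite Ω] (h : Bad G a B Γ) (T : Subgroup G) [T.Normal]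
    (hT : TwoTr T Ω) :
    rr G a B * Nat.card (UU G a B ⊓ T : Subgroup G) = Nat.card (stabilizer G a ⊓ T : Subgroup G) := by
  have hnorm : stabilizer G a ≤ normalizer ((stabilizer G a ⊓ T : Subgroup G) : Set G) := by
    intro g hg
    rw [mem_normalizer_iff]
    intro x
    constructor
    · rintro ⟨hx1, hx2⟩
      exact ⟨(stabilizer G a).mul_mem ((stabilizer G a).mul_mem hg hx1) ((stabilizer G a).inv_mem hg),
        ‹T.Normal›.conj_mem x hx2 g⟩
    · rintro ⟨hx1, hx2⟩
      have h1 : g⁻¹ * (g * x * g⁻¹) * g ∈ stabilizer G a :=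
        (stabilizer G a).mul_mem ((stabilizer G a).mul_mem ((stabilizer G a).inv_mem hg) hx1) hg
      have h2 : g⁻¹ * (g * x * g⁻¹) * g⁻¹⁻¹ ∈ T := ‹T.Normal›.conj_mem _ hx2 g⁻¹
      have h3 : g⁻¹ * (g * x * g⁻¹) * g = x := by group
      have h4 : g⁻¹ * (g * x * g⁻¹) * g⁻¹⁻¹ = x := by group
      rw [h3] at h1
      rw [h4] at h2
      exact ⟨h1, h2⟩
  have hnle : ¬ (stabilizer G a ⊓ T) ≤ UU G a B := by
    intro hle
    obtain ⟨y, hy⟩ := h.ne_univ
    refine inf_ne_of_twoTr hT h.mem h.ne ⟨y, fun hh => hy (h.sub.1 hh)⟩ ?_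
    apply le_antisymm inf_le_left
    intro t ht
    have h1 : (t : G) ∈ UU G a B := hle ⟨ht, t.2⟩
    exact ⟨ht, h1.2⟩
  have hsup : stabilizer G a ≤ UU G a B ⊔ (stabilizer G a ⊓ T) := by
    rcases h.max (UU G a B ⊔ (stabilizer G a ⊓ T)) le_sup_left (sup_le UU_le inf_le_left) with h1 | h1
    · exact absurd (le_trans le_sup_right h1.le) hnle
    · exact h1.ge
  have h1 := relIndex_mul_inf (U := UU G a B) (H := stabilizer G a) (N := stabilizer G a ⊓ T) UU_le
    inf_le_left hnorm hsup
  rw [← inf_assoc, inf_eq_left.2 UU_le] at h1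
  exact h1

end Bad

end Cfsg.Agent.H623.PD
end

-- part: H623/PDEleven
section
/-!
Degree eleven.
-/

set_option autoImplicit false
set_option linter.unusedSectionVars false

namespace Cfsg.Agent.H623.PD

open MulAction Subgroup
open scoped Pointwise

variable {G Ω : Type*} [Group G] [MulAction G Ω]

/-- The index of the socle in degree eleven. -/
theorem index_dvd_two [Finite G] [FaithfulSMul G Ω] (hΩ : Nat.card Ω = 11) (T : Subgroup G)
    [T.Normal] (hT : Nat.card T = 660 ∨ Nat.card T = 7920) : T.index ∣ 2 := by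
  classical
  have h11 : Fact (Nat.Prime 11) := ⟨by norm_num⟩
  obtain ⟨P⟩ : Nonempty (Sylow 11 T) := inferInstance
  have hPcard : Nat.card P = 11 := by
    rw [P.card_eq_multiplicity]
    rcases hT with h | h
    · have h0 : (Nat.card T).factorization 11 = 1 := by
        rw [h, show (660 : ℕ) = 11 * 60 by norm_num, Nat.factorization_mul (by norm_num) (by norm_num),
          Finsupp.add_apply, Nat.Prime.factorization_self (by norm_num),
          Nat.factorization_eq_zero_of_not_dvd (by norm_num)]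
      rw [h0, pow_one]
    · have h0 : (Nat.card T).factorization 11 = 1 := by
        rw [h, show (7920 : ℕ) = 11 * 720 by norm_num, Nat.factorization_mul (by norm_num) (by norm_num),
          Finsupp.add_apply, Nat.Prime.factorization_self (by norm_num),
          Nat.factorization_eq_zero_of_not_dvd (by norm_num)]
      rw [h0, pow_one]
  set P' : Subgroup G := (P : Subgroup T).map T.subtype with hP'
  have hP'card : Nat.card P' = 11 := by
    exact (Nat.card_congr ((P : Subgroup T).equivMapOfInjective _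
      T.subtype_injective).toEquiv).symm.trans hPcard
  have hN : Nat.card (normalizer (P' : Set G)) ∣ 11 * 10 :=
    SporadicA.PrimeDegNorm.card_normalizer_dvd hΩ P' hP'card
  have hNT : (normalizer (P' : Set G)).subgroupOf T = normalizer ((P : Subgroup T) : Set T) := by
    ext x
    rw [mem_subgroupOf, mem_normalizer_iff, mem_normalizer_iff]
    constructor
    · intro h y
      have h1 := h (y : G)
      constructor
      · intro hy
        obtain ⟨z, hz, hzy⟩ := h1.1 ⟨y, hy, rfl⟩
        have : z = x * y * x⁻¹ := Subtype.ext hzy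
        rw [← this]; exact hz
      · intro hy
        obtain ⟨z, hz, hzy⟩ := h1.2 ⟨x * y * x⁻¹, hy, rfl⟩
        have : z = y := Subtype.ext hzy
        rw [← this]; exact hz
    · intro h y
      constructor
      · rintro ⟨z, hz, rfl⟩
        exact ⟨x * z * x⁻¹, (h z).1 hz, rfl⟩
      · rintro ⟨z, hz, hzy⟩
        have hy : y = ((x⁻¹ * z * x : T) : G) := by
          have h3 : (z : G) = x * y * x⁻¹ := hzy
          simp only [Subgroup.coe_mul, Subgroup.coe_inv, h3]
          group
        rw [hy]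
        refine ⟨x⁻¹ * z * x, ?_, rfl⟩
        apply (h _).2
        have h4 : x * (x⁻¹ * z * x) * x⁻¹ = z := by group
        rw [h4]
        exact hz
  -- the order of the normaliser in `T`
  set N1 := (normalizer ((P : Subgroup T) : Set T)) with hN1
  have hN1dvd : Nat.card N1 ∣ 110 := by
    refine dvd_trans ?_ hN
    rw [← hNT]
    exact Subgroup.card_dvd_of_injective
      ((T.subtype).subgroupComap _) (by
        rintro ⟨⟨x, hx⟩, hx'⟩ ⟨⟨y, hy⟩, hy'⟩ h
        have : x = y := congrArg Subtype.val h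
        subst this
        rfl)
  have hPN : (P : Subgroup T) ≤ N1 := le_normalizer
  have h11N : 11 ∣ Nat.card N1 := by
    have := card_dvd_of_le hPN
    rw [hPcard] at this
    exact this
  have hsyl : N1.index ≡ 1 [MOD 11] := by
    have h0 : Nat.card (Sylow 11 T) = N1.index := P.card_eq_index_normalizer
    rw [← h0]
    exact card_sylow_modEq_one 11 T
  have hidx := N1.index_mul_card
  have hN55 : Nat.card N1 = 55 := by
    obtain ⟨m, hm⟩ := h11N
    have hm10 : m ∣ 10 := by
      rw [hm, show (110 : ℕ) = 11 * 10 by norm_num] at hN1dvd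
      exact Nat.dvd_of_mul_dvd_mul_left (by norm_num) hN1dvd
    have hm' : m ∈ Nat.divisors 10 := Nat.mem_divisors.2 ⟨hm10, by norm_num⟩
    have hd : Nat.divisors 10 = {1, 2, 5, 10} := by decide
    rw [hd] at hm'
    simp only [Finset.mem_insert, Finset.mem_singleton] at hm'
    unfold Nat.ModEq at hsyl
    rw [hm] at hidx
    rcases hm' with rfl | rfl | rfl | rfl <;> rcases hT with h | h <;> rw [h] at hidx <;> (clear * - hsyl hidx hm; omega)
  -- Frattini
  have hfrat : normalizer (P' : Set G) ⊔ T = ⊤ := P.normalizer_sup_eq_top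
  have h1 : T.relIndex (normalizer (P' : Set G) ⊔ T) = T.relIndex (normalizer (P' : Set G)) :=
    relIndex_sup_right _ _
  rw [hfrat, relIndex_top_right] at h1
  have h2 : T.relIndex (normalizer (P' : Set G)) *
      Nat.card (T ⊓ normalizer (P' : Set G) : Subgroup G) = Nat.card (normalizer (P' : Set G)) := by
    rw [← inf_relIndex_right, relIndex_mul_card' inf_le_right]
  have h3 : Nat.card (T ⊓ normalizer (P' : Set G) : Subgroup G) = 55 := by
    rw [← hN55, ← hNT, inf_comm]
    rw [← inf_subgroupOf_right]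
    exact (Nat.card_congr (subgroupOfEquivOfLe inf_le_right).toEquiv).symm
  rw [← h1, h3] at h2
  rw [← h2, show (11 * 10 : ℕ) = 2 * 55 by norm_num] at hN
  exact Nat.dvd_of_mul_dvd_mul_right (by norm_num) hN

theorem card_stab_inf [Finite G] (T : Subgroup G) [IsPretransitive T Ω] (a : Ω) :
    Nat.card T = Nat.card Ω * Nat.card (stabilizer G a ⊓ T : Subgroup G) := by
  have h10 := (stabilizer T a).index_mul_card
  rw [index_stabilizer_of_transitive] at h10
  rw [← h10]
  congr 1
  have : (stabilizer T a) = (stabilizer G a).subgroupOf T := by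
    ext x; rfl
  rw [this, ← inf_subgroupOf_right]
  exact (Nat.card_congr (subgroupOfEquivOfLe inf_le_right).toEquiv)

theorem rr_le_ten [Finite G] [Finite Ω] (hΩ : Nat.card Ω = 11) {a : Ω} {B Γ : Set Ω}
    (hbad : Bad G a B Γ) (hb : B.ncard = 2) : rr G a B ≤ 10 := by
  obtain ⟨x, hx, hxa⟩ := hbad.ne
  have hB : B = {a, x} := by
    symm
    apply Set.eq_of_subset_of_ncard_le _ _ (Set.toFinite _)
    · rintro y (rfl | rfl)
      · exact hbad.mem
      · exact hx
    · rw [hb, Set.ncard_pair hxa.symm]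
  have h1 := card_of_transOn (K := stabilizer G a) (a := x) _ rfl
  have h2 : (orbit (stabilizer G a) x).ncard ≤ 10 := by
    have h3 : orbit (stabilizer G a) x ⊆ {a}ᶜ := by
      rintro _ ⟨g, rfl⟩
      exact smul_ne_of_mem g.2 hxa
    have h4 := Set.ncard_le_ncard h3
    rwa [Set.ncard_compl, Set.ncard_singleton, hΩ] at h4
  have h5 : stabilizer G x ⊓ stabilizer G a ≤ UU G a B := by
    rintro g ⟨hg1, hg2⟩
    refine ⟨hg2, ?_⟩
    rw [hB]
    change g • ({a, x} : Set Ω) = {a, x}
    rw [Set.smul_set_insert, Set.smul_set_singleton]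
    rw [show g • a = a from hg2, show g • x = x from hg1]
  have h6 : Nat.card (stabilizer G x ⊓ stabilizer G a : Subgroup G) ≤ Nat.card (UU G a B) :=
    Nat.card_le_card_of_injective _ (Subgroup.inclusion_injective h5)
  have h7 : rr G a B * Nat.card (UU G a B) = Nat.card (stabilizer G a) := relIndex_mul_card' UU_le
  rw [h1] at h7
  have hpos : 0 < Nat.card (UU G a B) := Nat.card_pos
  have h8 : rr G a B * Nat.card (UU G a B) ≤ 10 * Nat.card (UU G a B) := by
    rw [h7]
    exact Nat.mul_le_mul h2 h6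
  exact Nat.le_of_mul_le_mul_right h8 hpos

/-- Degree eleven, the first case. -/
theorem false_660 [Finite G] [Finite Ω] [FaithfulSMul G Ω] [IsPretransitive G Ω]
    (hΩ : Nat.card Ω = 11) (T : Subgroup G) [T.Normal] (hT : Nat.card T = 660) (h2T : TwoTr T Ω)
    [IsPretransitive T Ω] {a : Ω} {B Γ : Set Ω} (hbad : Bad G a B Γ) : False := by
  classical
  have hp : (Nat.card Ω).Prime := by rw [hΩ]; norm_num
  have h2 : TwoTr G Ω := by
    intro x y z w hxy hzw
    obtain ⟨n, hn1, hn2⟩ := h2T x y z w hxy hzw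
    exact ⟨n, hn1, hn2⟩
  have h1 := hbad.two_mul_le
  have h3 := hbad.add_two_le
  have h4 := hbad.dvd
  have h5 := hbad.dvdB hp
  have h6 := hbad.dvdΓ hp
  have h7 := hbad.dvd_numB h2
  have h8 := hbad.dvd_numΓ h2
  have h9 := hbad.one_lt
  have hr := hbad.r_mul T h2T
  have hTa : Nat.card (stabilizer G a ⊓ T : Subgroup G) = 60 := by
    have h10 := card_stab_inf (G := G) (Ω := Ω) T a
    rw [hΩ, hT] at h10
    omega
  rw [hTa] at hr
  have hr60 : rr G a B ∣ 60 := ⟨_, hr.symm⟩
  rw [hΩ] at h3 h7 h8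
  have hb2 : B.ncard = 2 → rr G a B ≤ 10 := rr_le_ten hΩ hbad
  set r := rr G a B with hrdef
  set b := B.ncard with hb
  set g := Γ.ncard with hg
  clear_value b g
  have hcases : 30 ∣ r := by
    have hrdiv : r ∈ Nat.divisors 60 := Nat.mem_divisors.2 ⟨hr60, by norm_num⟩
    have hd : Nat.divisors 60 = {1, 2, 3, 4, 5, 6, 10, 12, 15, 20, 30, 60} := by decide
    rw [hd] at hrdiv
    simp only [Finset.mem_insert, Finset.mem_singleton] at hrdiv
    have hb' : b = 2 ∨ b = 3 ∨ b = 4 := by omega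
    have hg' : g = 4 ∨ g = 5 ∨ g = 6 ∨ g = 7 ∨ g = 8 ∨ g = 9 := by (clear * - h9 h3 h1; omega)
    rcases hb' with rfl | rfl | rfl
    · have := hb2 rfl
      rcases hg' with rfl | rfl | rfl | rfl | rfl | rfl <;> (clear * - h7 this h6 h4; omega)
    · rcases hg' with rfl | rfl | rfl | rfl | rfl | rfl <;> (clear * - h1 h7 h6 h4 hrdiv; omega)
    · rcases hg' with rfl | rfl | rfl | rfl | rfl | rfl <;> (clear * - h1 hrdiv h6 h4; omega)
  -- `U` is a small 2-group
  have hidx := index_dvd_two hΩ T (Or.inl hT)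
  have hH := index_mul_card T
  have hG : Nat.card G = Nat.card Ω * Nat.card (stabilizer G a) := by
    rw [← index_stabilizer_of_transitive G a, index_mul_card]
  have hrU : r * Nat.card (UU G a B) = Nat.card (stabilizer G a) := relIndex_mul_card' UU_le
  rw [hT, hG, hΩ] at hH
  have hi : T.index = 1 ∨ T.index = 2 := (Nat.dvd_prime Nat.prime_two).1 hidx
  obtain ⟨k, hk⟩ := hcases
  have hUH : Nat.card (UU G a B) ≠ 0 := Nat.card_pos.ne'
  set u := Nat.card (UU G a B) with hu
  have h2 : Fact (Nat.Prime 2) := ⟨Nat.prime_two⟩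
  have hkey : (u ∣ 2 ∧ Nat.card (stabilizer G a) = 60) ∨ (u ∣ 4 ∧ Nat.card (stabilizer G a) = 120) := by
    rcases hi with hi | hi
    · left
      rw [hi] at hH
      have h12 : Nat.card (stabilizer G a) = 60 := by omega
      refine ⟨⟨k, ?_⟩, h12⟩
      rw [h12, hk] at hrU
      have : 30 * (u * k) = 30 * 2 := by rw [← hrU.trans (show 60 = 30 * 2 by norm_num)]; ring
      exact (Nat.eq_of_mul_eq_mul_left (by norm_num) this).symm
    · right
      rw [hi] at hH
      have h12 : Nat.card (stabilizer G a) = 120 := by omega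
      refine ⟨⟨k, ?_⟩, h12⟩
      rw [h12, hk] at hrU
      have : 30 * (u * k) = 30 * 4 := by rw [← hrU.trans (show 120 = 30 * 4 by norm_num)]; ring
      exact (Nat.eq_of_mul_eq_mul_left (by norm_num) this).symm
  have hpg : IsPGroup 2 ((UU G a B).subgroupOf (stabilizer G a)) := by
    have h13 : Nat.card ((UU G a B).subgroupOf (stabilizer G a)) = u :=
      Nat.card_congr (subgroupOfEquivOfLe UU_le).toEquiv
    have h14 : u ∣ 2 ^ 2 := by
      rcases hkey with ⟨h, -⟩ | ⟨h, -⟩
      · exact h.trans (by norm_num)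
      · exact h
    obtain ⟨j, -, hj⟩ := (Nat.dvd_prime_pow Nat.prime_two).1 h14
    exact IsPGroup.of_card (h13.trans hj)
  obtain ⟨S, hS⟩ := hpg.exists_le_sylow
  set S' : Subgroup G := (S : Subgroup (stabilizer G a)).map (stabilizer G a).subtype with hS'
  have hS'card : Nat.card S' = Nat.card S :=
    (Nat.card_congr ((S : Subgroup (stabilizer G a)).equivMapOfInjective _
      (stabilizer G a).subtype_injective).toEquiv).symm
  have hUS : UU G a B ≤ S' := by
    intro x hx
    exact ⟨⟨x, UU_le hx⟩, hS (show (⟨x, UU_le hx⟩ : stabilizer G a) ∈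
      (UU G a B).subgroupOf (stabilizer G a) from hx), rfl⟩
  obtain ⟨n, hn⟩ := IsPGroup.iff_card.1 S.isPGroup'
  rcases hbad.max S' hUS (map_subtype_le _) with h15 | h15
  · have h16 : Nat.card S = u := by rw [← hS'card, h15]; rfl
    rcases hkey with ⟨h17, h18⟩ | ⟨h17, h18⟩
    · have h19 : 2 ^ 2 ∣ Nat.card S := S.pow_dvd_card_of_pow_dvd_card (by rw [h18]; norm_num)
      rw [h16] at h19
      have := (Nat.le_of_dvd (by norm_num) (h19.trans h17))
      omega
    · have h19 : 2 ^ 3 ∣ Nat.card S := S.pow_dvd_card_of_pow_dvd_card (by rw [h18]; norm_num)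
      rw [h16] at h19
      have := (Nat.le_of_dvd (by norm_num) (h19.trans h17))
      omega
  · have h16 : Nat.card S = Nat.card (stabilizer G a) := by rw [← hS'card, h15]
    have h20 : 3 ∣ Nat.card (stabilizer G a) := by
      rcases hkey with ⟨-, h⟩ | ⟨-, h⟩ <;> rw [h] <;> norm_num
    rw [← h16, hn] at h20
    have := Nat.Prime.dvd_of_dvd_pow (by norm_num) h20
    omega

/-- A simple group of order 7920 in degree eleven is sharply 4-transitive. -/
theorem four_of_7920 [Finite G] [Finite Ω] [FaithfulSMul G Ω] (hΩ : Nat.card Ω = 11)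
    (T : Subgroup G) [IsPretransitive T Ω] (hT : Nat.card T = 7920)
    (hns : ¬ Group.IsSolvable T) :
    (∀ f f' : Fin 4 ↪ Ω, ∃ t ∈ T, ∀ i, t • f i = f' i) ∧
      ∀ (f : Fin 4 ↪ Ω), ∀ t ∈ T, (∀ i, t • f i = f i) → t = 1 := by
  classical
  have := Fintype.ofFinite Ω
  have hcard : Fintype.card Ω = 11 := by rw [← Nat.card_eq_fintype_card, hΩ]
  let φ : T →* Equiv.Perm Ω := (MulAction.toPermHom G Ω).comp T.subtype
  have hφ : Function.Injective φ := by
    intro x y hxy
    apply Subtype.ext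
    apply FaithfulSMul.eq_of_smul_eq_smul (α := Ω)
    intro c
    exact DFunLike.congr_fun hxy c
  have htr : IsPretransitive φ.range Ω := by
    constructor
    intro x y
    obtain ⟨t, ht⟩ := _root_.MulAction.exists_smul_eq T x y
    exact ⟨⟨φ t, t, rfl⟩, ht⟩
  have e : T ≃* φ.range := MonoidHom.ofInjective hφ
  have hcardr : Nat.card φ.range = 7920 := by rw [← hT]; exact (Nat.card_congr e.toEquiv).symm
  have hns' : ¬ Group.IsSolvable φ.range := fun h =>
    hns (Group.isSolvable_of_isSolvable_injective (f := e.toMonoidHom) e.injective)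
  have hA : ¬ alternatingGroup Ω ≤ φ.range := by
    intro h
    have h1 := card_dvd_of_le h
    have hnt : Nontrivial Ω := by
      rw [← Finite.one_lt_card_iff_nontrivial, hΩ]; norm_num
    have h2 := two_mul_nat_card_alternatingGroup (α := Ω)
    rw [Nat.card_perm, hΩ] at h2
    rw [hcardr] at h1
    have h3 : 2 * Nat.card (alternatingGroup Ω) ∣ 2 * 7920 := Nat.mul_dvd_mul_left 2 h1
    rw [h2] at h3
    revert h3
    decide
  rcases Cfsg.Agent.S0679.result hcard φ.range hns' hA with ⟨h1, h2⟩ | ⟨⟨e'⟩⟩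
  · constructor
    · intro f f'
      have h3 : IsPretransitive φ.range (Fin 4 ↪ Ω) := h1
      obtain ⟨⟨_, t, rfl⟩, ht⟩ := _root_.MulAction.exists_smul_eq φ.range f f'
      refine ⟨t, t.2, fun i => ?_⟩
      have := DFunLike.congr_fun ht i
      exact this
    · intro f t ht hf
      have h3 : (⟨φ ⟨t, ht⟩, ⟨t, ht⟩, rfl⟩ : φ.range) ∈ stabilizer φ.range f := by
        rw [mem_stabilizer_iff]
        ext i
        exact hf i
      rw [h2 f, mem_bot] at h3
      have h4 : φ ⟨t, ht⟩ = 1 := congrArg Subtype.val h3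
      have h5 : (⟨t, ht⟩ : T) = 1 := hφ (h4.trans (map_one φ).symm)
      exact congrArg Subtype.val h5
  · exfalso
    have : Fact (Nat.Prime 11) := ⟨by norm_num⟩
    have h3 := Nat.card_congr e'.toEquiv
    have h4 := Cfsg.Agent.ClassicalGeometry.PSL2Basic.card_PSL2_odd (F := ZMod 11)
      (by rw [ZMod.card]; decide)
    rw [← h3, hcardr, ZMod.card] at h4
    norm_num at h4

/-- Degree eleven, order 7920. -/
theorem false_7920 [Finite G] [Finite Ω] [FaithfulSMul G Ω] [IsPretransitive G Ω]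
    (hΩ : Nat.card Ω = 11) (T : Subgroup G) [hTn : T.Normal] (hT : Nat.card T = 7920)
    (hns : ¬ Group.IsSolvable T) (h2T : TwoTr T Ω)
    [IsPretransitive T Ω] {a : Ω} {B Γ : Set Ω} (hbad : Bad G a B Γ) : False := by
  classical
  obtain ⟨h4t, hsharp⟩ := four_of_7920 hΩ T hT hns
  have hp : (Nat.card Ω).Prime := by rw [hΩ]; norm_num
  have h2 : TwoTr G Ω := by
    intro x y z w hxy hzw
    obtain ⟨n, hn1, hn2⟩ := h2T x y z w hxy hzw
    exact ⟨n, hn1, hn2⟩
  have h1 := hbad.two_mul_le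
  have h3 := hbad.add_two_le
  have h4 := hbad.dvd
  have h5 := hbad.dvdB hp
  have h6 := hbad.dvdΓ hp
  have h7 := hbad.dvd_numB h2
  have hmt : IsMultiplyPretransitive T Ω 4 := ⟨fun f f' => by
    obtain ⟨t, ht, h⟩ := h4t f f'
    exact ⟨⟨t, ht⟩, by ext i; exact h i⟩⟩
  have h9 := hbad.le_of_multi 4 (by rw [hΩ]; norm_num) T hmt
  have hr := hbad.r_mul T h2T
  have hTa : Nat.card (stabilizer G a ⊓ T : Subgroup G) = 720 := by
    have h10 := card_stab_inf (G := G) (Ω := Ω) T a
    rw [hΩ, hT] at h10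
    omega
  rw [hTa] at hr
  rw [hΩ] at h3 h7
  have hb4 : B.ncard = 4 := by omega
  have hg8 : Γ.ncard = 8 := by
    obtain ⟨c, hc⟩ := h4
    rw [hb4] at hc h1
    omega
  rw [hb4] at h7
  rw [hg8] at h6
  -- the three other points
  have hB3 : (B \ {a}).ncard = 3 := by
    rw [Set.ncard_sdiff_singleton_of_mem hbad.mem, hb4]
  obtain ⟨x, y, z, hxy, hxz, hyz, hxyz⟩ := Set.ncard_eq_three.1 hB3
  have hxB : x ∈ B \ {a} := by rw [hxyz]; simp
  have hyB : y ∈ B \ {a} := by rw [hxyz]; simp
  have hzB : z ∈ B \ {a} := by rw [hxyz]; simp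
  have hxa : x ≠ a := hxB.2
  have hya : y ≠ a := hyB.2
  have hza : z ≠ a := hzB.2
  have hBeq : ∀ w, w ∈ B ↔ w = a ∨ w = x ∨ w = y ∨ w = z := by
    intro w
    constructor
    · intro hw
      by_cases hwa : w = a
      · exact Or.inl hwa
      · right
        have : w ∈ B \ {a} := ⟨hw, hwa⟩
        rw [hxyz] at this
        exact this
    · rintro (rfl | rfl | rfl | rfl)
      · exact hbad.mem
      · exact hxB.1
      · exact hyB.1
      · exact hzB.1
  set U0 : Subgroup G := UU G a B ⊓ T with hU0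
  -- pointwise stabiliser
  have hfix : ∀ t ∈ T, t • a = a → t • x = x → t • y = y → t • z = z → t = 1 := by
    intro t ht h1 h2 h3 h4
    refine hsharp ⟨![a, x, y, z], ?_⟩ t ht ?_
    · intro i j h
      fin_cases i <;> fin_cases j <;>
        simp [hxa, hya, hza, hxy, hxz, hyz, hxa.symm, hya.symm, hza.symm, hxy.symm, hxz.symm,
          hyz.symm] at h ⊢
    · intro i
      fin_cases i
      · exact h1
      · exact h2
      · exact h3
      · exact h4
  -- an element of order three
  obtain ⟨t, htT, ht⟩ := h4t ⟨![a, x, y, z], by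
      intro i j h
      fin_cases i <;> fin_cases j <;>
        simp [hxa, hya, hza, hxy, hxz, hyz, hxa.symm, hya.symm, hza.symm, hxy.symm, hxz.symm,
          hyz.symm] at h ⊢⟩ ⟨![a, y, z, x], by
      intro i j h
      fin_cases i <;> fin_cases j <;>
        simp [hxa, hya, hza, hxy, hxz, hyz, hxa.symm, hya.symm, hza.symm, hxy.symm, hxz.symm,
          hyz.symm] at h ⊢⟩
  have hta : t • a = a := ht 0
  have htx : t • x = y := ht 1
  have hty : t • y = z := ht 2
  have htz : t • z = x := ht 3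
  have htU : t ∈ U0 := by
    refine ⟨⟨hta, ?_⟩, htT⟩
    change t • B = B
    have hsub : t • B ⊆ B := by
      rintro _ ⟨w, hw, rfl⟩
      change t • w ∈ B
      rcases (hBeq w).1 hw with rfl | rfl | rfl | rfl
      · rw [hta]; exact hw
      · rw [htx]; exact hyB.1
      · rw [hty]; exact hzB.1
      · rw [htz]; exact hxB.1
    apply Set.eq_of_subset_of_ncard_le hsub _ (Set.toFinite _)
    rw [Set.ncard_smul_set]
  have ht3 : t ^ 3 = 1 := by
    apply hfix _ (T.pow_mem htT 3)
    · rw [pow_succ, pow_two, mul_smul, mul_smul, hta, hta, hta]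
    · rw [pow_succ, pow_two, mul_smul, mul_smul, htx, hty, htz]
    · rw [pow_succ, pow_two, mul_smul, mul_smul, hty, htz, htx]
    · rw [pow_succ, pow_two, mul_smul, mul_smul, htz, htx, hty]
  have ht1 : t ≠ 1 := by
    intro h
    rw [h, one_smul] at htx
    exact hxy htx
  have hord : orderOf t = 3 := orderOf_eq_prime ht3 ht1
  have h3U0 : 3 ∣ Nat.card U0 := by
    have : orderOf (⟨t, htU⟩ : U0) = 3 := by rw [← hord]; exact Subgroup.orderOf_mk t htU
    rw [← this]
    exact _root_.orderOf_dvd_natCard _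
  have hU06 : Nat.card U0 ≤ 6 := by
    have hc : Nat.card (Fin 3 ↪ (B \ {a} : Set Ω)) = 6 := by
      have := Fintype.ofFinite (B \ {a} : Set Ω)
      have h20 : Fintype.card (B \ {a} : Set Ω) = 3 := by
        rw [← Nat.card_eq_fintype_card, Nat.card_coe_set_eq, hB3]
      rw [Nat.card_eq_fintype_card, Fintype.card_embedding_eq, Fintype.card_fin, h20]
      decide
    rw [← hc]
    let base : Fin 3 → (B \ {a} : Set Ω) := ![⟨x, hxB⟩, ⟨y, hyB⟩, ⟨z, hzB⟩]
    have hbase : Function.Injective base := by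
      intro i j h
      fin_cases i <;> fin_cases j <;>
        simp [base, hxy, hxz, hyz, hxy.symm, hxz.symm, hyz.symm] at h ⊢
    refine Nat.card_le_card_of_injective (fun u : U0 => (⟨fun i =>
      ⟨(u : G) • (base i : Ω), UU_smul_memB u.2.1 (base i).2.1,
        smul_ne_of_mem (UU_le u.2.1) (base i).2.2⟩, ?_⟩ : Fin 3 ↪ (B \ {a} : Set Ω))) ?_
    · intro i j h
      have h21 : (u : G) • (base i : Ω) = (u : G) • (base j : Ω) := congrArg Subtype.val h
      exact hbase (Subtype.ext (MulAction.injective _ h21))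
    · intro u v huv
      have h22 : ∀ i, (u : G) • (base i : Ω) = (v : G) • (base i : Ω) := fun i =>
        congrArg Subtype.val (DFunLike.congr_fun huv i)
      have h23 : (v : G)⁻¹ * (u : G) = 1 := by
        apply hfix _ (T.mul_mem (T.inv_mem v.2.2) u.2.2)
        · rw [mul_smul, show (u : G) • a = a from UU_le u.2.1, inv_smul_eq_iff]
          exact (show (v : G) • a = a from UU_le v.2.1).symm
        · rw [mul_smul, inv_smul_eq_iff]; exact h22 0
        · rw [mul_smul, inv_smul_eq_iff]; exact h22 1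
        · rw [mul_smul, inv_smul_eq_iff]; exact h22 2
      apply Subtype.ext
      rw [inv_mul_eq_one] at h23
      exact h23.symm
  have hU0cases : Nat.card U0 = 3 ∨ Nat.card U0 = 6 := by
    have h0 : 0 < Nat.card U0 := Nat.card_pos
    omega
  -- the Sylow 3-subgroup of `U0`
  have hf3 : Fact (Nat.Prime 3) := ⟨by norm_num⟩
  obtain ⟨P⟩ : Nonempty (Sylow 3 U0) := inferInstance
  have hPcard : Nat.card P = 3 := by
    obtain ⟨n, hn⟩ := IsPGroup.iff_card.1 P.isPGroup'
    have h24 : Nat.card P ∣ Nat.card U0 := card_subgroup_dvd_card _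
    have h25 : 3 ^ 1 ∣ Nat.card P := P.pow_dvd_card_of_pow_dvd_card (by rwa [pow_one])
    have h26 : Nat.card P ≤ 6 := (Nat.le_of_dvd Nat.card_pos h24).trans hU06
    rw [hn] at h25 h26 ⊢
    have hn2 : n < 2 := by
      by_contra hcon
      push Not at hcon
      have := Nat.pow_le_pow_right (show 0 < 3 by norm_num) hcon
      omega
    have hn1 : 1 ≤ n := by
      by_contra hcon
      have : n = 0 := by omega
      subst this
      norm_num at h25
    have : n = 1 := by omega
    rw [this, pow_one]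
  have huniq : ∀ u : U0, u ^ 3 = 1 → u ∈ P := by
    have h27 : Nat.card (Sylow 3 U0) = 1 := by
      have h28 := card_sylow_modEq_one 3 U0
      have h29 : Nat.card (Sylow 3 U0) ∣ (P : Subgroup U0).index := P.card_dvd_index
      have h30 : (P : Subgroup U0).index * Nat.card P = Nat.card U0 := index_mul_card _
      rw [hPcard] at h30
      have h31 : (P : Subgroup U0).index = 1 ∨ (P : Subgroup U0).index = 2 := by omega
      have h32 : Nat.card (Sylow 3 U0) = 1 ∨ Nat.card (Sylow 3 U0) = 2 := by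
        rcases h31 with h | h
        · rw [h] at h29
          exact Or.inl (Nat.dvd_one.1 h29)
        · rw [h] at h29
          exact (Nat.dvd_prime Nat.prime_two).1 h29
      unfold Nat.ModEq at h28
      omega
    intro u hu
    have hss : Subsingleton (Sylow 3 U0) := (Nat.card_eq_one_iff_unique.1 h27).1
    have hz : IsPGroup 3 (zpowers u) := by
      rcases eq_or_ne u 1 with rfl | hne
      · rw [zpowers_one_eq_bot]
        exact IsPGroup.of_bot
      · exact IsPGroup.of_card (n := 1) (by rw [Nat.card_zpowers, orderOf_eq_prime hu hne, pow_one])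
    obtain ⟨Q, hQ⟩ := hz.exists_le_sylow
    have : Q = P := Subsingleton.elim _ _
    rw [← this]
    exact hQ (mem_zpowers u)
  have hcube : ∀ u : U0, u ∈ P → u ^ 3 = 1 := by
    intro u hu
    have h := pow_card_eq_one' (x := (⟨u, hu⟩ : (P : Subgroup U0)))
    rw [show Nat.card (P : Subgroup U0) = 3 from hPcard] at h
    exact congrArg Subtype.val h
  set Z : Subgroup G := (P : Subgroup U0).map U0.subtype with hZ
  have hZmem : ∀ g : G, g ∈ Z ↔ g ∈ U0 ∧ g ^ 3 = 1 := by
    intro g
    constructor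
    · rintro ⟨u, hu, rfl⟩
      exact ⟨u.2, congrArg Subtype.val (hcube u hu)⟩
    · rintro ⟨h1, h2⟩
      exact ⟨⟨g, h1⟩, huniq ⟨g, h1⟩ (Subtype.ext h2), rfl⟩
  have hZcard : Nat.card Z = 3 := by
    rw [← hPcard]
    exact (Nat.card_congr ((P : Subgroup U0).equivMapOfInjective _
      U0.subtype_injective).toEquiv).symm
  have hUN : UU G a B ≤ stabilizer G a ⊓ normalizer (Z : Set G) := by
    refine le_inf UU_le ?_
    intro u hu
    rw [mem_normalizer_iff]
    intro g
    rw [hZmem, hZmem]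
    have hconj : (u * g * u⁻¹) ^ 3 = u * g ^ 3 * u⁻¹ := by
      simp only [pow_succ, pow_zero]
      group
    constructor
    · rintro ⟨⟨h1, h2⟩, h3⟩
      refine ⟨⟨(UU G a B).mul_mem ((UU G a B).mul_mem hu h1) ((UU G a B).inv_mem hu),
        hTn.conj_mem g h2 u⟩, ?_⟩
      rw [hconj, h3, mul_one, mul_inv_cancel]
    · rintro ⟨⟨h1, h2⟩, h3⟩
      have h4 : u⁻¹ * (u * g * u⁻¹) * u⁻¹⁻¹ = g := by group
      refine ⟨⟨?_, ?_⟩, ?_⟩
      · rw [← h4, inv_inv]
        exact (UU G a B).mul_mem ((UU G a B).mul_mem ((UU G a B).inv_mem hu) h1) hu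
      · rw [← h4]
        exact hTn.conj_mem _ h2 u⁻¹
      · rw [hconj, mul_inv_eq_one] at h3
        have : u * g ^ 3 = u * 1 := by rw [h3, mul_one]
        exact mul_left_cancel this
  have hZT : Z ≤ stabilizer G a ⊓ T := by
    intro g hg
    exact ⟨UU_le ((hZmem g).1 hg).1.1, ((hZmem g).1 hg).1.2⟩
  rcases hbad.max _ hUN inf_le_left with h33 | h33
  · -- the Sylow 3-subgroup of `T_a` normalises `Z`
    have hpgZ : IsPGroup 3 (Z.subgroupOf (stabilizer G a ⊓ T)) := by
      apply IsPGroup.of_card (n := 1)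
      rw [pow_one, ← hZcard]
      exact Nat.card_congr (subgroupOfEquivOfLe hZT).toEquiv
    obtain ⟨S, hS⟩ := hpgZ.exists_le_sylow
    have hScard : Nat.card S = 3 ^ 2 := by
      obtain ⟨n, hn⟩ := IsPGroup.iff_card.1 S.isPGroup'
      have h34 : 3 ^ 2 ∣ Nat.card S := S.pow_dvd_card_of_pow_dvd_card (by rw [hTa]; norm_num)
      have h35 : Nat.card S ∣ 720 := by rw [← hTa]; exact card_subgroup_dvd_card _
      rw [hn] at h34 h35 ⊢
      have h36 : n < 3 := by
        by_contra hcon
        push Not at hcon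
        have h37 : 3 ^ 3 ∣ 720 := (pow_dvd_pow 3 hcon).trans h35
        revert h37; decide
      have h38 : 2 ≤ n := by
        by_contra hcon
        have h39 := Nat.le_of_dvd (by positivity) h34
        have h40 : 3 ^ n ≤ 3 ^ 1 := Nat.pow_le_pow_right (by norm_num) (by omega)
        omega
      have : n = 2 := by omega
      rw [this]
    have hcommS := (IsPGroup.isMulCommutative_of_card_eq_prime_sq (p := 3) hScard).is_comm.comm
    set S' : Subgroup G := (S : Subgroup (stabilizer G a ⊓ T : Subgroup G)).map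
      (stabilizer G a ⊓ T).subtype with hS'
    have hSN : S' ≤ stabilizer G a ⊓ normalizer (Z : Set G) := by
      rintro _ ⟨s, hs, rfl⟩
      refine ⟨s.2.1, ?_⟩
      have hcomm : ∀ g ∈ Z, (s : G) * g = g * s := by
        intro g hg
        have hgS : (⟨g, hZT hg⟩ : (stabilizer G a ⊓ T : Subgroup G)) ∈ S :=
          hS (show (⟨g, hZT hg⟩ : (stabilizer G a ⊓ T : Subgroup G)) ∈
            Z.subgroupOf (stabilizer G a ⊓ T) from hg)
        have := hcommS ⟨s, hs⟩ ⟨_, hgS⟩
        have h41 := congrArg Subtype.val this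
        exact congrArg Subtype.val h41
      change (s : G) ∈ normalizer (Z : Set G)
      rw [mem_normalizer_iff]
      intro g
      constructor
      · intro hg
        rw [hcomm g hg, mul_inv_cancel_right]
        exact hg
      · intro hg
        have h42 := hcomm _ hg
        have h43 : g = (s : G) * g * (s : G)⁻¹ := by
          have : (s : G) * ((s : G) * g * (s : G)⁻¹) = (s : G) * g := by
            rw [h42]; group
          exact (mul_left_cancel this).symm
        rw [h43]
        exact hg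
    have hSU : S' ≤ U0 := by
      intro g hg
      have h44 := hSN hg
      rw [h33] at h44
      obtain ⟨s, hs, rfl⟩ := hg
      exact ⟨h44, s.2.2⟩
    have h45 := card_dvd_of_le hSU
    have h46 : Nat.card S' = 9 := by
      rw [show (9 : ℕ) = 3 ^ 2 by norm_num, ← hScard]
      exact (Nat.card_congr ((S : Subgroup (stabilizer G a ⊓ T : Subgroup G)).equivMapOfInjective _
        (stabilizer G a ⊓ T).subtype_injective).toEquiv).symm
    rw [h46] at h45
    have := Nat.le_of_dvd Nat.card_pos h45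
    omega
  · -- `Z` is normal in `H`
    have hZpg : IsPGroup 3 Z := IsPGroup.of_card (n := 1) (by rw [hZcard, pow_one])
    have hfixc := hZpg.card_modEq_card_fixedPoints Ω
    rw [hΩ] at hfixc
    have hexc : ∃ c : Ω, c ≠ a ∧ ∀ g ∈ Z, g • c = c := by
      by_contra hcon
      push Not at hcon
      have h47 : fixedPoints Z Ω ⊆ {a} := by
        intro c hc
        by_contra hca
        obtain ⟨g, hg, hgc⟩ := hcon c hca
        exact hgc (hc ⟨g, hg⟩)
      have h48 := Set.ncard_le_ncard h47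
      rw [Set.ncard_singleton] at h48
      rw [Nat.card_coe_set_eq] at hfixc
      unfold Nat.ModEq at hfixc
      omega
    obtain ⟨c, hca, hc⟩ := hexc
    have hall : ∀ g ∈ Z, ∀ w : Ω, g • w = w := by
      intro g hg w
      by_cases hwa : w = a
      · rw [hwa]; exact (hZT hg).1
      · obtain ⟨h, hh1, hh2⟩ := h2 a c a w hca.symm (Ne.symm hwa)
        have h49 : h ∈ stabilizer G a ⊓ normalizer (Z : Set G) := by rw [h33]; exact hh1
        have h50 : h⁻¹ * g * h ∈ Z := by
          have := (mem_normalizer_iff.1 h49.2) (h⁻¹ * g * h)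
          apply this.2
          have h51 : h * (h⁻¹ * g * h) * h⁻¹ = g := by group
          rw [h51]; exact hg
        have h52 := hc _ h50
        rw [mul_smul, mul_smul, hh2, inv_smul_eq_iff, hh2] at h52
        exact h52
    apply ht1
    have htZ : t ∈ Z := (hZmem t).2 ⟨htU, ht3⟩
    apply FaithfulSMul.eq_of_smul_eq_smul (α := Ω)
    intro w
    rw [one_smul]
    exact hall t htZ w

end Cfsg.Agent.H623.PD
end

private theorem dce_2492f22b3aaf : _root_.True := by
  try have : _root_.True := by simp only [_root_.Cfsg.Agent.H623.PD.UU.eq_1]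
  exact _root_.True.intro
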